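import Mathlib.RingTheory.Ideal.KrullsHeightTheorem

/-! Primes between two primes in a Noetherian ring. -/

universe u

namespace GrothLib.CAux

variable {R : Type u} [CommRing R]

theorem map_mk_isPrime {s P : Ideal R} [P.IsPrime] (h : s ≤ P) :
    (P.map (Ideal.Quotient.mk s)).IsPrime :=
  Ideal.map_isPrime_of_surjective Ideal.Quotient.mk_surjective (by simpa [Ideal.mk_ker] using h)

theorem map_mk_lt {s P Q : Ideal R} (hs : s ≤ P) (h : P < Q) :
    P.map (Ideal.Quotient.mk s) < Q.map (Ideal.Quotient.mk s) := by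
  refine lt_of_le_not_ge (Ideal.map_mono h.le) fun hle => h.not_ge ?_
  have := Ideal.comap_mono (f := Ideal.Quotient.mk s) hle
  rw [Ideal.comap_map_of_surjective _ Ideal.Quotient.mk_surjective,
    Ideal.comap_map_of_surjective _ Ideal.Quotient.mk_surjective] at this
  simp only [← RingHom.ker_eq_comap_bot, Ideal.mk_ker, sup_eq_left.2 hs,
    sup_eq_left.2 (hs.trans h.le)] at this
  exact this

/-- Between primes of relative height at least two there is a prime avoiding a given element. -/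
theorem exists_prime_between [IsNoetherianRing R] (s q : Ideal R) [s.IsPrime] [q.IsPrime]
    (hsq : s < q) (hht : 1 < (q.map (Ideal.Quotient.mk s)).height) (a : R) (haq : a ∈ q)
    (has : a ∉ s) : ∃ t : Ideal R, t.IsPrime ∧ s < t ∧ t < q ∧ a ∉ t := by
  classical
  let S := {P ∈ (s ⊔ Ideal.span {a}).minimalPrimes | P ≤ q}
  have hfin : S.Finite := (Ideal.finite_minimalPrimes_of_isNoetherianRing R _).subset fun P hP => hP.1
  have hle : s ⊔ Ideal.span {a} ≤ q :=
    sup_le hsq.le ((Ideal.span_singleton_le_iff_mem q).2 haq)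
  obtain ⟨P₀, hP₀, hP₀q⟩ := Ideal.exists_minimalPrimes_le hle
  have hnot : ¬ (q : Set R) ⊆ ⋃ P ∈ (hfin.toFinset : Set (Ideal R)), (P : Set R) := fun h => by
    obtain ⟨P, hP, hqP⟩ := (Ideal.subset_union_prime (f := fun P : Ideal R => P) ⊥ ⊥
      fun P hP _ _ => (hfin.mem_toFinset.1 hP).1.1.1).1 h
    have hP' := hfin.mem_toFinset.1 hP
    have := Ideal.map_height_le_one_of_mem_minimalPrimes hP'.1
    rw [le_antisymm hP'.2 hqP] at this
    exact hht.not_ge this
  obtain ⟨b, hbq, hb⟩ := Set.not_subset.1 hnot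
  have hb' : ∀ P ∈ S, b ∉ P := fun P hP hbP =>
    hb (Set.mem_biUnion (hfin.mem_toFinset.2 hP) hbP)
  obtain ⟨t, ht, htq⟩ := Ideal.exists_minimalPrimes_le (I := s ⊔ Ideal.span {b}) (J := q)
    (sup_le hsq.le ((Ideal.span_singleton_le_iff_mem q).2 hbq))
  have := ht.1.1
  have hst : s ≤ t := le_trans le_sup_left ht.1.2
  have hbt : b ∈ t := ht.1.2 (Ideal.mem_sup_right (Ideal.mem_span_singleton_self b))
  have h1 := Ideal.map_height_le_one_of_mem_minimalPrimes ht
  have hbs : b ∉ s := fun h => hb' P₀ ⟨hP₀, hP₀q⟩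
    (hP₀.1.2 (Ideal.mem_sup_left h))
  refine ⟨t, this, lt_of_le_not_ge hst fun h => hbs (h hbt), lt_of_le_of_ne htq ?_, fun hat => ?_⟩
  · rintro rfl
    exact hht.not_ge h1
  · obtain ⟨P, hP, hPt⟩ := Ideal.exists_minimalPrimes_le (I := s ⊔ Ideal.span {a}) (J := t)
      (sup_le hst ((Ideal.span_singleton_le_iff_mem t).2 hat))
    have := hP.1.1
    have hsP : s < P := lt_of_le_not_ge (le_trans le_sup_left hP.1.2) fun h =>
      has (h (hP.1.2 (Ideal.mem_sup_right (Ideal.mem_span_singleton_self a))))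
    have hPlt : P < t := lt_of_le_not_ge hPt fun h =>
      hb' P ⟨hP, hPt.trans htq⟩ (h hbt)
    have := map_mk_isPrime (s := s) (P := s) le_rfl
    have := map_mk_isPrime (s := s) (P := P) hsP.le
    have := map_mk_isPrime (s := s) (P := t) hst
    have e1 := Ideal.height_add_one_le_of_lt_of_isPrime (map_mk_lt (le_refl s) hsP)
    have e2 := Ideal.height_add_one_le_of_lt_of_isPrime (map_mk_lt hsP.le hPlt)
    have e3 : (1 : ℕ∞) ≤ (P.map (Ideal.Quotient.mk s)).height := le_trans le_add_self e1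
    have : (2 : ℕ∞) ≤ 1 :=
      le_trans (by rw [← one_add_one_eq_two]; gcongr) (le_trans e2 h1)
    exact absurd this (by decide)

end GrothLib.CAux
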